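import Cfsg.Agent.H886.Inv.Base

/-!
# Scalar plus rank one (S4171, row PSL)

`four_rank_one`: an endomorphism `c + ξ ⊗ x` of determinant one of a space of even dimension at
least four is, up to a scalar, the product of two elements strongly real up to sign.
-/

set_option autoImplicit false

universe u w w'

namespace Cfsg.Agent.H886.Inv

open Polynomial Module Cfsg.Agent.H141.Ore

section Diag

variable {F : Type u} [Field F] {ι : Type} [Fintype ι] [DecidableEq ι]

/-- diagonal endomorphism of `(ι → F) × (ι → F)` -/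
noncomputable def dg (a b : ι → F) : Module.End F ((ι → F) × (ι → F)) :=
  LinearMap.prodMap (Matrix.toLin' (Matrix.diagonal a)) (Matrix.toLin' (Matrix.diagonal b))

theorem dg_apply (a b : ι → F) (x : (ι → F) × (ι → F)) :
    dg a b x = (fun i => a i * x.1 i, fun i => b i * x.2 i) := by
  refine Prod.ext ?_ ?_
  · funext i
    simp [dg, Matrix.mulVec_diagonal]
  · funext i
    simp [dg, Matrix.mulVec_diagonal]

theorem det_dg (a b : ι → F) : LinearMap.det (dg a b) = (∏ i, a i) * ∏ i, b i := by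
  unfold dg
  rw [LinearMap.det_prodMap, LinearMap.det_toLin', LinearMap.det_toLin', Matrix.det_diagonal,
    Matrix.det_diagonal]

theorem srl_dg (a b : ι → F) (ρ : Equiv.Perm ι) (hρ : ∀ i, ρ (ρ i) = i)
    (hab : ∀ i, a i * b (ρ i) = 1) : SRL (dg a b) ∧ LinearMap.det (dg a b) = 1 := by
  have hab' : ∀ i, b i * a (ρ i) = 1 := by
    intro i
    have := hab (ρ i)
    rwa [hρ, mul_comm] at this
  let r : (ι → F) →ₗ[F] (ι → F) := LinearMap.funLeft F F ρ
  have hr : ∀ (f : ι → F) i, r f i = f (ρ i) := fun f i => rfl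
  let U : Module.End F ((ι → F) × (ι → F)) :=
    1 - (LinearMap.inl F _ _) ∘ₗ r ∘ₗ (LinearMap.snd F _ _)
  let L : Module.End F ((ι → F) × (ι → F)) :=
    1 + (LinearMap.inr F _ _) ∘ₗ r ∘ₗ (LinearMap.fst F _ _)
  have hU : ∀ x, U x = (x.1 - r x.2, x.2) := by
    intro x
    refine Prod.ext ?_ ?_ <;> simp [U]
  have hL : ∀ x, L x = (x.1, x.2 + r x.1) := by
    intro x
    refine Prod.ext ?_ ?_ <;> simp [L]
  have hrr : ∀ f, r (r f) = f := by
    intro f
    funext i
    rw [hr, hr, hρ]
  have hUd : LinearMap.det U = 1 := by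
    apply det_unip
    refine ⟨2, ?_⟩
    ext x <;> simp [U, pow_two]
  have hLd : LinearMap.det L = 1 := by
    apply det_unip
    refine ⟨2, ?_⟩
    ext x <;> simp [L, pow_two]
  have hs : ∀ x, (U * L * U) x = (-(r x.2), r x.1) := by
    intro x
    rw [Module.End.mul_apply, Module.End.mul_apply, hU, hL, hU]
    refine Prod.ext ?_ ?_
    · simp only [map_sub, map_add, hrr]
      abel
    · simp only [map_sub, hrr]
      abel
  refine ⟨SRL.of_inv (U * L * U) (-1) (Or.inr rfl) ?_ ?_ ?_, ?_⟩
  · rw [map_mul, map_mul, hUd, hLd, one_mul, one_mul]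
  · refine LinearMap.ext fun x => ?_
    rw [Module.End.mul_apply, hs, hs, LinearMap.smul_apply, Module.End.one_apply, neg_one_smul]
    refine Prod.ext ?_ ?_
    · simp [hrr]
    · simp [hrr]
  · refine LinearMap.ext fun x => ?_
    rw [Module.End.mul_apply, Module.End.mul_apply, hs, hs, dg_apply, dg_apply]
    refine Prod.ext ?_ ?_
    · funext i
      simp only [Pi.neg_apply, hr]
      have := hab i
      linear_combination (-(x.2 (ρ i))) * this
    · funext i
      simp only [hr]
      have := hab' i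
      linear_combination (x.1 (ρ i)) * this
  · rw [det_dg]
    have h1 : ∏ i, b i = ∏ i, b (ρ i) := (Equiv.prod_comp ρ b).symm
    rw [h1, ← Finset.prod_mul_distrib]
    exact Finset.prod_eq_one fun i _ => hab i

end Diag

section

variable {F : Type u} [Field F] {V : Type w} [AddCommGroup V] [Module F V]

/-- two rank-one data with `φ x = 1` are equivalent -/
theorem exists_equiv_of_functional {W : Type w'} [AddCommGroup W] [Module F W]
    [FiniteDimensional F V] [FiniteDimensional F W] (h : finrank F V = finrank F W)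
    (φ : V →ₗ[F] F) (x : V) (hx : φ x = 1) (ψ : W →ₗ[F] F) (y : W) (hy : ψ y = 1) :
    ∃ e : V ≃ₗ[F] W, e x = y ∧ ∀ v, ψ (e v) = φ v := by
  have h1 := finrank_ker_functional φ x hx
  have h2 := finrank_ker_functional ψ y hy
  let e0 : LinearMap.ker φ ≃ₗ[F] LinearMap.ker ψ := LinearEquiv.ofFinrankEq _ _ (by omega)
  let f : V →ₗ[F] W := (LinearMap.ker ψ).subtype ∘ₗ (e0 : LinearMap.ker φ →ₗ[F] LinearMap.ker ψ) ∘ₗ
    proj φ x hx + LinearMap.toSpanSingleton F W y ∘ₗ φ
  have hf : ∀ v, f v = (e0 (proj φ x hx v) : W) + φ v • y := fun v => rfl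
  have hψf : ∀ v, ψ (f v) = φ v := by
    intro v
    rw [hf, map_add, map_smul, hy, LinearMap.mem_ker.1 (e0 (proj φ x hx v)).2, zero_add,
      smul_eq_mul, mul_one]
  have hinj : Function.Injective f := by
    rw [injective_iff_map_eq_zero]
    intro v hv
    have h3 : φ v = 0 := by rw [← hψf, hv, map_zero]
    rw [hf, h3, zero_smul, add_zero] at hv
    have h4 : e0 (proj φ x hx v) = 0 := Subtype.ext hv
    have h5 : proj φ x hx v = 0 := by simpa using h4
    have h6 := congrArg Subtype.val h5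
    rw [coe_proj, h3, zero_smul, sub_zero] at h6
    exact h6
  refine ⟨LinearMap.linearEquivOfInjective f hinj h, ?_, ?_⟩
  · rw [LinearMap.linearEquivOfInjective_apply, hf, proj_self, map_zero, hx, one_smul]
    simp
  · intro v
    rw [LinearMap.linearEquivOfInjective_apply, hψf]

theorem exists_functional_one {x : V} (hx : x ≠ 0) : ∃ φ : V →ₗ[F] F, φ x = 1 := by
  by_contra hcon
  push Not at hcon
  apply hx
  rw [← Module.forall_dual_apply_eq_zero_iff F]
  intro φ
  by_contra h
  apply hcon ((φ x)⁻¹ • φ)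
  rw [LinearMap.smul_apply, smul_eq_mul, inv_mul_cancel₀ h]

/-- a transvection is strongly real in `SL(V)`, `dim V ≥ 3` -/
theorem srl_transvection [FiniteDimensional F V] (h3 : 3 ≤ finrank F V) (ξ : V →ₗ[F] F) (x : V)
    (hx : ξ x = 0) : SRL (LinearMap.transvection ξ x) := by
  by_cases hx0 : x = 0
  · have : LinearMap.transvection ξ x = 1 := by
      ext v
      rw [LinearMap.transvection.apply, hx0, smul_zero, add_zero]
      rfl
    rw [this]
    exact SRL.one
  obtain ⟨η, hη⟩ := exists_functional_one (F := F) hx0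
  obtain ⟨k, hk, hk0⟩ : ∃ k : V, (η.prod ξ) k = 0 ∧ k ≠ 0 := by
    have h1 : LinearMap.ker (η.prod ξ) ≠ ⊥ := by
      apply LinearMap.ker_ne_bot_of_finrank_lt
      rw [Module.finrank_prod, finrank_self]
      omega
    obtain ⟨k, hk, hk0⟩ := Submodule.exists_mem_ne_zero_of_ne_bot h1
    exact ⟨k, LinearMap.mem_ker.1 hk, hk0⟩
  have hηk : η k = 0 := congrArg Prod.fst hk
  have hξk : ξ k = 0 := congrArg Prod.snd hk
  obtain ⟨κ0, hκ0⟩ := exists_functional_one (F := F) hk0
  let κ : V →ₗ[F] F := κ0 - κ0 x • η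
  have hκ : ∀ v, κ v = κ0 v - κ0 x * η v := fun v => rfl
  have hκk : κ k = 1 := by rw [hκ, hκ0, hηk, mul_zero, sub_zero]
  have hκx : κ x = 0 := by rw [hκ, hη, mul_one, sub_self]
  let s : Module.End F V := LinearMap.transvection ((-2 : F) • η) x *
    LinearMap.transvection ((-2 : F) • κ) k
  have hs : ∀ v, s v = v + (-2 * κ v) • k + (-2 * η v) • x := by
    intro v
    show LinearMap.transvection ((-2 : F) • η) x (LinearMap.transvection ((-2 : F) • κ) k v) = _
    rw [LinearMap.transvection.apply, LinearMap.transvection.apply, map_add, map_smul,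
      LinearMap.smul_apply, LinearMap.smul_apply, LinearMap.smul_apply, hηk]
    simp
  refine SRL.of_inv s 1 (Or.inl rfl) ?_ ?_ ?_
  · show LinearMap.det (LinearMap.transvection ((-2 : F) • η) x *
      LinearMap.transvection ((-2 : F) • κ) k) = 1
    rw [map_mul, LinearMap.transvection.det, LinearMap.transvection.det, LinearMap.smul_apply,
      LinearMap.smul_apply, hη, hκk]
    norm_num
  · ext v
    rw [one_smul, Module.End.mul_apply, Module.End.one_apply, hs, hs]
    simp only [map_add, map_smul, hκk, hκx, hη, hηk, smul_eq_mul]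
    module
  · ext v
    rw [Module.End.mul_apply, Module.End.mul_apply, LinearMap.transvection.apply,
      LinearMap.transvection.apply, hs, hs]
    simp only [map_add, map_smul, hκx, hη, hξk, hx, smul_eq_mul]
    module

theorem wsum_aux {F : Type u} [Field F] (m : ℕ) [NeZero m] (c : F) (hc : c ≠ 0) :
    ∃ a b a' b' : ZMod m → F, (∀ i, a i * b (-1 - i) = 1) ∧ (∀ i, a' i * b' (-2 - i) = 1) ∧
      (∀ i, a i * a' i = c) ∧ (∀ i, i ≠ -1 → b i * b' i = c) ∧
      (b (-1) * b' (-1)) * c ^ (2 * m - 1) = 1 := by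
  -- weights
  let w : ZMod m → ℤ := fun i => (m : ℤ) - 1 - 2 * (i.val : ℤ)
  have hm : 0 < m := Nat.pos_of_ne_zero (NeZero.ne m)
  have hval : ∀ i : ZMod m, (-1 - i).val = m - 1 - i.val := by
    intro i
    have hi : i.val < m := ZMod.val_lt i
    have h1 : (-1 - i : ZMod m) = ((m - 1 - i.val : ℕ) : ZMod m) := by
      rw [Nat.cast_sub (by omega), Nat.cast_sub (by omega)]
      simp
    rw [h1, ZMod.val_cast_of_lt (by omega)]
  have hw1 : ∀ i, w (-1 - i) = - w i := by
    intro i
    have hi : i.val < m := ZMod.val_lt i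
    show (m : ℤ) - 1 - 2 * ((-1 - i).val : ℤ) = -((m : ℤ) - 1 - 2 * (i.val : ℤ))
    rw [hval]
    omega
  have hsucc : ∀ i : ZMod m, i ≠ -1 → w (i + 1) = w i - 2 := by
    intro i hi
    have hi' : i.val < m := ZMod.val_lt i
    have h0 : i.val + 1 < m := by
      by_contra h
      apply hi
      have h2 : i.val + 1 = m := by omega
      have h3 : ((i.val + 1 : ℕ) : ZMod m) = 0 := by rw [h2]; simp
      rw [Nat.cast_add, ZMod.natCast_zmod_val, Nat.cast_one] at h3
      exact eq_neg_of_add_eq_zero_left h3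
    have h1 : (i + 1 : ZMod m) = ((i.val + 1 : ℕ) : ZMod m) := by
      rw [Nat.cast_add, ZMod.natCast_zmod_val, Nat.cast_one]
    show (m : ℤ) - 1 - 2 * ((i + 1).val : ℤ) = ((m : ℤ) - 1 - 2 * (i.val : ℤ)) - 2
    rw [h1, ZMod.val_cast_of_lt h0]
    push_cast
    ring
  refine ⟨fun i => c ^ (w i + 1), fun i => c ^ (w i - 1), fun i => c ^ (- w i),
    fun i => c ^ (- w (i + 1)), ?_, ?_, ?_, ?_, ?_⟩
  · intro i
    show c ^ (w i + 1) * c ^ (w (-1 - i) - 1) = 1
    rw [hw1, ← zpow_add₀ hc]
    have : w i + 1 + (-w i - 1) = 0 := by ring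
    rw [this, zpow_zero]
  · intro i
    show c ^ (-w i) * c ^ (-w (-2 - i + 1)) = 1
    have h1 : (-2 - i + 1 : ZMod m) = -1 - i := by ring
    rw [h1, hw1, ← zpow_add₀ hc]
    have : -w i + - -w i = 0 := by ring
    rw [this, zpow_zero]
  · intro i
    show c ^ (w i + 1) * c ^ (-w i) = c
    rw [← zpow_add₀ hc]
    have : w i + 1 + -w i = 1 := by ring
    rw [this, zpow_one]
  · intro i hi
    show c ^ (w i - 1) * c ^ (-w (i + 1)) = c
    rw [hsucc i hi, ← zpow_add₀ hc]
    have : w i - 1 + -(w i - 2) = 1 := by ring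
    rw [this, zpow_one]
  · show (c ^ (w (-1) - 1) * c ^ (-w (-1 + 1))) * c ^ (2 * m - 1) = 1
    have h1 : (-1 + 1 : ZMod m) = 0 := by ring
    have h0 : w 0 = m - 1 := by
      show (m : ℤ) - 1 - 2 * ((0 : ZMod m).val : ℤ) = m - 1
      rw [ZMod.val_zero]
      simp
    have h2 : w (-1) = -((m : ℤ) - 1) := by
      have := hw1 0
      rwa [sub_zero, h0] at this
    rw [h1, h0, h2, ← zpow_natCast c (2 * m - 1), ← zpow_add₀ hc, ← zpow_add₀ hc]
    have : -((m : ℤ) - 1) - 1 + -((m : ℤ) - 1) + ((2 * m - 1 : ℕ) : ℤ) = 0 := by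
      omega
    rw [this, zpow_zero]

/-- scalar plus rank one, semisimple case -/
theorem four_semisimple [FiniteDimensional F V] (m : ℕ) (hm : 0 < m) (hn : finrank F V = 2 * m)
    (c d : F) (x : V) (φ : V →ₗ[F] F) (hx : φ x = 1) (S : Module.End F V)
    (hS : ∀ v, S v = c • v + ((d - c) * φ v) • x) (hcd : c ^ (2 * m - 1) * d = 1) : Four S := by
  have : NeZero m := ⟨hm.ne'⟩
  have hc : c ≠ 0 := by
    rintro rfl
    rw [zero_pow (by omega), zero_mul] at hcd
    exact zero_ne_one hcd
  obtain ⟨a, b, a', b', h1, h2, h3, h4, h5⟩ := wsum_aux m c hc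
  have hd : b (-1) * b' (-1) = d := by
    have h6 : c ^ (2 * m - 1) ≠ 0 := pow_ne_zero _ hc
    apply mul_right_cancel₀ h6
    rw [h5, mul_comm, hcd]
  let W := (ZMod m → F) × (ZMod m → F)
  have hW : finrank F V = finrank F W := by
    rw [hn, Module.finrank_prod, Module.finrank_fintype_fun_eq_card, ZMod.card]
    ring
  let ψ : W →ₗ[F] F := LinearMap.proj (-1) ∘ₗ LinearMap.snd F _ _
  let y : W := (0, Pi.single (-1) 1)
  have hψ : ∀ z : W, ψ z = z.2 (-1) := fun z => rfl
  have hy : ψ y = 1 := by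
    rw [hψ]
    show (Pi.single (-1) 1 : ZMod m → F) (-1) = 1
    rw [Pi.single_eq_same]
  obtain ⟨e, he1, he2⟩ := exists_equiv_of_functional hW φ x hx ψ y hy
  have hF : Four (dg a b * dg a' b' : Module.End F W) := by
    refine ⟨1, dg a b, dg a' b', by rw [one_smul], ?_, ?_, ?_, ?_⟩
    · exact (srl_dg a b (Equiv.subLeft (-1)) (fun i => by simp) (fun i => h1 i)).1
    · exact (srl_dg a' b' (Equiv.subLeft (-2)) (fun i => by simp) (fun i => h2 i)).1
    · exact (srl_dg a b (Equiv.subLeft (-1)) (fun i => by simp) (fun i => h1 i)).2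
    · exact (srl_dg a' b' (Equiv.subLeft (-2)) (fun i => by simp) (fun i => h2 i)).2
  refine Four.transport e.symm (S := dg a b * dg a' b') ?_ hF
  intro z
  rw [LinearEquiv.symm_apply_eq, hS, map_add, map_smul, map_smul, LinearEquiv.apply_symm_apply, he1]
  have h6 : φ (e.symm z) = ψ z := by rw [← he2, LinearEquiv.apply_symm_apply]
  rw [h6, hψ, Module.End.mul_apply, dg_apply, dg_apply]
  refine Prod.ext ?_ ?_
  · funext i
    show a i * (a' i * z.1 i) = c * z.1 i + ((d - c) * z.2 (-1)) * 0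
    rw [← mul_assoc, h3]
    ring
  · funext i
    show b i * (b' i * z.2 i) = c * z.2 i + ((d - c) * z.2 (-1)) * (Pi.single (-1) 1 : ZMod m → F) i
    rw [← mul_assoc]
    by_cases hi : i = -1
    · subst hi
      rw [hd, Pi.single_eq_same]
      ring
    · rw [h4 i hi, Pi.single_eq_of_ne hi]
      ring

/-- the determinant of scalar plus rank one -/
theorem det_rank_one [FiniteDimensional F V] (c : F) (hc : c ≠ 0) (x : V) (ξ : V →ₗ[F] F)
    (S : Module.End F V) (hS : ∀ v, S v = c • v + ξ v • x) :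
    LinearMap.det S = c ^ finrank F V * (1 + c⁻¹ * ξ x) := by
  have : S = c • LinearMap.transvection (c⁻¹ • ξ) x := by
    ext v
    rw [hS, LinearMap.smul_apply, LinearMap.transvection.apply, smul_add, LinearMap.smul_apply,
      smul_eq_mul, mul_smul, smul_inv_smul₀ hc]
  rw [this, LinearMap.det_smul, LinearMap.transvection.det, LinearMap.smul_apply, smul_eq_mul]

/-- **scalar plus rank one** -/
theorem four_rank_one [FiniteDimensional F V] (hn : Even (finrank F V)) (h4 : 4 ≤ finrank F V)
    (c : F) (x : V) (ξ : V →ₗ[F] F) (S : Module.End F V) (hS : ∀ v, S v = c • v + ξ v • x)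
    (hdet : LinearMap.det S = 1) : Four S := by
  have hc : c ≠ 0 := by
    rintro rfl
    have h1 : LinearMap.ker ξ ≠ ⊥ := by
      apply LinearMap.ker_ne_bot_of_finrank_lt
      rw [finrank_self]
      omega
    obtain ⟨k, hk, hk0⟩ := Submodule.exists_mem_ne_zero_of_ne_bot h1
    have h2 : S k = 0 := by rw [hS, LinearMap.mem_ker.1 hk]; simp
    have h3 : LinearMap.ker S = ⊥ := by
      by_contra h
      rw [← ne_eq, ← LinearMap.det_eq_zero_iff_ker_ne_bot, hdet] at h
      exact one_ne_zero h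
    exact hk0 (by
      have : k ∈ LinearMap.ker S := h2
      rwa [h3, Submodule.mem_bot] at this)
  have hd := det_rank_one c hc x ξ S hS
  rw [hdet] at hd
  by_cases hx : ξ x = 0
  · refine ⟨c, LinearMap.transvection (c⁻¹ • ξ) x, 1, ?_, srl_transvection (by omega) _ _ ?_,
      SRL.one, ?_, map_one _⟩
    · ext v
      rw [hS, mul_one, LinearMap.smul_apply, LinearMap.transvection.apply, smul_add,
        LinearMap.smul_apply, smul_eq_mul, mul_smul, smul_inv_smul₀ hc]
    · rw [LinearMap.smul_apply, hx, smul_zero]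
    · rw [LinearMap.transvection.det, LinearMap.smul_apply, hx, smul_zero, add_zero]
  · obtain ⟨m, hm⟩ := hn
    refine four_semisimple m (by omega) (by omega) c (c + ξ x) x ((ξ x)⁻¹ • ξ) ?_ S ?_ ?_
    · rw [LinearMap.smul_apply, smul_eq_mul, inv_mul_cancel₀ hx]
    · intro v
      rw [hS, LinearMap.smul_apply, smul_eq_mul, add_sub_cancel_left, ← mul_assoc,
        mul_inv_cancel₀ hx, one_mul]
    · have h5 : finrank F V = (2 * m - 1) + 1 := by omega
      rw [h5, pow_succ] at hd
      rw [hd]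
      field_simp
end

end Cfsg.Agent.H886.Inv
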