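import Cfsg.Agent.H886.Inv.RankOne

/-!
# Dimension two (S4171, row PSL)
-/

set_option autoImplicit false

universe u w

namespace Cfsg.Agent.H886.Inv

open Module Cfsg.Agent.H141.Ore

section

variable {F : Type u} [Field F] {V : Type w} [AddCommGroup V] [Module F V]

/-- `SRL` and inverses -/
theorem SRL.inv_of {D C : Module.End F V} (h : SRL D) (h1 : D * C = 1) (h2 : C * D = 1) : SRL C := by
  obtain ⟨s, ε, hε, hs, h3, h4⟩ := h
  have hεε : ε * ε = 1 := by rcases hε with rfl | rfl <;> ring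
  have h5 : D * s * D = s := by
    have h6 : s * (s * (D * s * D)) = s * (s * s) := by
      have : s * (D * s * D) = ε • 1 := by
        rw [← h4]; simp only [mul_assoc]
      rw [this, h3]
    have h7 : ε • (s * (s * (D * s * D))) = ε • (s * (s * s)) := by rw [h6]
    rw [← mul_assoc s s, h3] at h7
    simpa [smul_smul, hεε] using h7
  refine SRL.of_inv s ε hε hs h3 ?_
  calc C * s * C = C * (D * s * D) * C := by rw [h5]
    _ = (C * D) * s * (D * C) := by simp only [mul_assoc]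
    _ = s := by rw [h1, h2, one_mul, mul_one]

/-- two different eigenvalues `a`, `a⁻¹` in dimension two -/
theorem srl_two [FiniteDimensional F V] (hn : finrank F V = 2) (a : F) (ha : a ≠ 0)
    (haa : a - a⁻¹ ≠ 0) (T : Module.End F V) (ξ : V →ₗ[F] F) (x : V)
    (hT : ∀ y, T y = a⁻¹ • y + ξ y • x) (hξ : ξ x = a - a⁻¹) : SRL T ∧ LinearMap.det T = 1 := by
  let W := (Fin 1 → F) × (Fin 1 → F)
  have hW : finrank F V = finrank F W := by
    rw [hn, Module.finrank_prod, Module.finrank_fintype_fun_eq_card, Fintype.card_fin]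
  let ψ : W →ₗ[F] F := LinearMap.proj 0 ∘ₗ LinearMap.fst F _ _
  have hψ : ∀ z : W, ψ z = z.1 0 := fun z => rfl
  let y : W := (fun _ => 1, 0)
  have hy : ψ y = 1 := rfl
  have hφx : ((a - a⁻¹)⁻¹ • ξ) x = 1 := by
    rw [LinearMap.smul_apply, hξ, smul_eq_mul, inv_mul_cancel₀ haa]
  obtain ⟨e, he1, he2⟩ := exists_equiv_of_functional hW ((a - a⁻¹)⁻¹ • ξ) x hφx ψ y hy
  have he : ∀ z, e.symm (dg (fun _ : Fin 1 => a) (fun _ => a⁻¹) z) = T (e.symm z) := by
    intro z
    rw [LinearEquiv.symm_apply_eq, hT, map_add, map_smul, map_smul, LinearEquiv.apply_symm_apply,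
      he1]
    have h6 : ξ (e.symm z) = (a - a⁻¹) * z.1 0 := by
      have := he2 (e.symm z)
      rw [LinearEquiv.apply_symm_apply, hψ, LinearMap.smul_apply, smul_eq_mul] at this
      rw [this, mul_inv_cancel_left₀ haa]
    rw [h6, dg_apply]
    refine Prod.ext ?_ ?_
    · funext i
      have hi : i = 0 := Subsingleton.elim _ _
      subst hi
      show a * z.1 0 = a⁻¹ * z.1 0 + ((a - a⁻¹) * z.1 0) * 1
      ring
    · funext i
      show a⁻¹ * z.2 i = a⁻¹ * z.2 i + ((a - a⁻¹) * z.1 0) * 0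
      ring
  have h := srl_dg (fun _ : Fin 1 => a) (fun _ => a⁻¹) 1 (fun i => rfl)
    (fun i => mul_inv_cancel₀ ha)
  refine ⟨h.1.transport e.symm he, ?_⟩
  rw [det_transport e.symm he, h.2]

/-- dimension two, at least four scalars -/
theorem four_two [FiniteDimensional F V] (hn : finrank F V = 2) (a : F) (ha : a ≠ 0)
    (haa : a * a ≠ 1) (S : Module.End F V) (hdet : LinearMap.det S = 1) (hS : NonScalar S) :
    Four S := by
  have haa' : a - a⁻¹ ≠ 0 := by
    intro h
    apply haa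
    rw [sub_eq_zero] at h
    nth_rewrite 2 [h]
    exact mul_inv_cancel₀ ha
  obtain ⟨φ, v, hv, hSv, hs⟩ := exists_pivot S hdet hS
  have hk := finrank_ker_functional φ v hv
  have hk1 : finrank F (LinearMap.ker φ) = 1 := by omega
  -- the Schur complement is `1`
  have hs1 : schur S φ v hSv = 1 := by
    rcases hs with hs | hs
    · exfalso
      obtain ⟨w0, hw0⟩ := finrank_eq_one_iff'.1 hk1
      obtain ⟨c, hc⟩ := hw0.2 (schur S φ v hSv w0)
      obtain ⟨x, hx⟩ := hs c
      obtain ⟨b, rfl⟩ := hw0.2 x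
      apply hx
      rw [map_smul, ← hc, smul_comm]
    · exact hs
  obtain ⟨B, D, L⟩ := exists_lift S φ v hv hSv a (a⁻¹ • 1) (a⁻¹ • 1) (by
    intro w
    rw [hs1]
    rfl)
  have hker : ∀ y, y - φ y • v ∈ LinearMap.ker φ := by
    intro y
    rw [LinearMap.mem_ker, map_sub, map_smul, hv, smul_eq_mul, mul_one, sub_self]
  have hB : ∀ y, B y = a⁻¹ • y + φ y • (B v - a⁻¹ • v) := by
    intro y
    have h1 := L.Bw ⟨_, hker y⟩
    have h2 : B (y - φ y • v) = a⁻¹ • (y - φ y • v) := h1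
    rw [map_sub, map_smul] at h2
    rw [smul_sub, ← sub_add_cancel (B y) (φ y • B v), h2, smul_sub, smul_comm a⁻¹]
    abel
  have hB' := srl_two hn a ha haa' B φ (B v - a⁻¹ • v) hB (by
    rw [map_sub, L.phiB, map_smul, hv, smul_eq_mul, mul_one, mul_one])
  -- the functional for `D`
  let ψ : V →ₗ[F] F := (a - a⁻¹) • φ - (a⁻¹) • (φ ∘ₗ S ∘ₗ (LinearMap.ker φ).subtype ∘ₗ proj φ v hv)
  have hψ : ∀ y, ψ y = (a - a⁻¹) * φ y - a⁻¹ * φ (S (proj φ v hv y)) := fun y => rfl
  have hD : ∀ y, D y = a⁻¹ • y + ψ y • v := by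
    intro y
    have h1 := L.Dw (proj φ v hv y)
    have h2 : ((a⁻¹ • (1 : Module.End F (LinearMap.ker φ))) (proj φ v hv y) : V) =
      a⁻¹ • (proj φ v hv y : V) := rfl
    rw [h2, map_smul, map_smul, smul_eq_mul] at h1
    have h3 : y = (proj φ v hv y : V) + φ y • v := by rw [coe_proj]; abel
    have h4 : D y = D (proj φ v hv y : V) + φ y • D v := by
      rw [← map_smul, ← map_add, ← h3]
    have h5 : a⁻¹ • y = a⁻¹ • (proj φ v hv y : V) + (a⁻¹ * φ y) • v := by
      conv_lhs => rw [h3]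
      rw [smul_add, mul_smul]
    rw [h4, h1, L.Dv, hψ, h5]
    module
  have hψv : ψ v = a - a⁻¹ := by
    rw [hψ, hv, proj_self]
    simp
  have hD' := srl_two hn a ha haa' D ψ v hD hψv
  -- inverse of `D`
  have hu : IsUnit D := by
    rw [LinearMap.isUnit_iff_isUnit_det, hD'.2]
    exact isUnit_one
  obtain ⟨u, hu⟩ := hu
  have e1 : D * (u⁻¹ : (Module.End F V)ˣ) = 1 := by rw [← hu, u.mul_inv]
  have e2 : ((u⁻¹ : (Module.End F V)ˣ) : Module.End F V) * D = 1 := by rw [← hu, u.inv_mul]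
  have h7 : S * D = B := LinearMap.ext L.sd
  refine ⟨1, B, (u⁻¹ : (Module.End F V)ˣ), ?_, hB'.1, hD'.1.inv_of e1 e2, hB'.2, ?_⟩
  · rw [one_smul, ← h7, mul_assoc, e1, mul_one]
  · have := congrArg LinearMap.det e1
    rw [map_mul, hD'.2, one_mul, map_one] at this
    exact this

/-- a suitable scalar exists in a field with at least four elements -/
theorem exists_scalar {F : Type*} [Field F] [Fintype F] (h : 4 ≤ Fintype.card F) :
    ∃ a : F, a ≠ 0 ∧ a * a ≠ 1 := by
  classical
  have h1 : ({0, 1, -1} : Finset F).card < Fintype.card F := by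
    have : ({0, 1, -1} : Finset F).card ≤ 3 := Finset.card_le_three
    omega
  obtain ⟨a, ha⟩ := Finset.exists_mem_notMem_of_card_lt_card (s := ({0, 1, -1} : Finset F))
    (t := Finset.univ) (by rwa [Finset.card_univ])
  have ha' := ha.2
  simp only [Finset.mem_insert, Finset.mem_singleton, not_or] at ha'
  refine ⟨a, ha'.1, fun h => ?_⟩
  rcases mul_self_eq_one_iff.1 h with h | h
  · exact ha'.2.1 h
  · exact ha'.2.2 h

end

end Cfsg.Agent.H886.Inv
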