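import Cfsg.Prelude.Def_Classical
import Cfsg.Agent.H146.Inv4.Base
import Cfsg.Agent.H886.Inv.Two

/-!
# The row PSL of S4171: assembly
-/

set_option autoImplicit false

namespace Cfsg.Agent.H886.Inv

open Module Cfsg.Agent.H141.Ore Cfsg.Agent.H146.Inv4

section

variable {F : Type} [Field F] {n : ℕ}

/-- the element of `SL_n` of an endomorphism of determinant one -/
noncomputable def mkSL (T : Module.End F (Fin n → F)) (h : LinearMap.det T = 1) :
    Matrix.SpecialLinearGroup (Fin n) F :=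
  ⟨LinearMap.toMatrix' T, by rw [LinearMap.det_toMatrix', h]⟩

theorem mkSL_mul {S T : Module.End F (Fin n → F)} (hS : LinearMap.det S = 1)
    (hT : LinearMap.det T = 1) :
    mkSL S hS * mkSL T hT = mkSL (S * T) (by rw [map_mul, hS, hT, one_mul]) := by
  apply Subtype.ext
  show LinearMap.toMatrix' S * LinearMap.toMatrix' T = LinearMap.toMatrix' (S * T)
  rw [← LinearMap.toMatrix'_mul]

theorem mkSL_mem_center {T : Module.End F (Fin n → F)} (hT : LinearMap.det T = 1) (a : F)
    (h : T = a • (1 : Module.End F (Fin n → F))) :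
    mkSL T hT ∈ Subgroup.center (Matrix.SpecialLinearGroup (Fin n) F) := by
  rw [Subgroup.mem_center_iff]
  intro g
  apply Subtype.ext
  show (g : Matrix (Fin n) (Fin n) F) * LinearMap.toMatrix' T = LinearMap.toMatrix' T * g
  have h1 : LinearMap.toMatrix' T = a • (1 : Matrix (Fin n) (Fin n) F) := by
    rw [h, map_smul]
    congr 1
    exact LinearMap.toMatrix'_one
  rw [h1, Matrix.mul_smul, Matrix.smul_mul, mul_one, one_mul]

theorem w2_of_srl {B : Module.End F (Fin n → F)} (hB : LinearMap.det B = 1) (h : SRL B) :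
    W2 (Subgroup.center (Matrix.SpecialLinearGroup (Fin n) F)) (mkSL B hB) := by
  obtain ⟨s, ε, hε, hs, h1, h2⟩ := h
  have e1 : mkSL s hs * mkSL s hs ∈ Subgroup.center (Matrix.SpecialLinearGroup (Fin n) F) := by
    rw [mkSL_mul]
    exact mkSL_mem_center _ ε h1
  have e2 : (mkSL s hs * mkSL B hB) * (mkSL s hs * mkSL B hB) ∈
      Subgroup.center (Matrix.SpecialLinearGroup (Fin n) F) := by
    rw [mkSL_mul, mkSL_mul]
    exact mkSL_mem_center _ ε h2
  refine ⟨(mkSL s hs)⁻¹, mkSL s hs * mkSL B hB, 1, ?_, e2, Subgroup.one_mem _, by group⟩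
  rw [← mul_inv_rev]
  exact Subgroup.inv_mem _ e1

theorem w4_of_four (g : Matrix.SpecialLinearGroup (Fin n) F)
    (h : Four (Matrix.toLin' (g : Matrix (Fin n) (Fin n) F))) :
    W4 (Subgroup.center (Matrix.SpecialLinearGroup (Fin n) F)) g := by
  obtain ⟨z, B, C, h1, h2, h3, h4, h5⟩ := h
  have h6 := W2.mul le_rfl (w2_of_srl h4 h2) (w2_of_srl h5 h3)
  have h7 : g = (mkSL B h4 * mkSL C h5) * ((mkSL B h4 * mkSL C h5)⁻¹ * g) := by group
  rw [h7]
  apply h6.mul_mem
  have h8 : (g : Matrix (Fin n) (Fin n) F) = z • ((mkSL B h4 * mkSL C h5 :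
      Matrix.SpecialLinearGroup (Fin n) F) : Matrix (Fin n) (Fin n) F) := by
    rw [mkSL_mul]
    show (g : Matrix (Fin n) (Fin n) F) = z • LinearMap.toMatrix' (B * C)
    rw [← map_smul, ← h1, LinearMap.toMatrix'_toLin']
  have h9 : (((mkSL B h4 * mkSL C h5)⁻¹ * g : Matrix.SpecialLinearGroup (Fin n) F) :
      Matrix (Fin n) (Fin n) F) = z • (1 : Matrix (Fin n) (Fin n) F) := by
    rw [Matrix.SpecialLinearGroup.coe_mul, h8, Matrix.mul_smul, ← Matrix.SpecialLinearGroup.coe_mul,
      inv_mul_cancel]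
    rfl
  generalize (mkSL B h4 * mkSL C h5)⁻¹ * g = y at h9
  rw [Subgroup.mem_center_iff]
  intro x
  apply Subtype.ext
  show (x : Matrix (Fin n) (Fin n) F) * (y : Matrix (Fin n) (Fin n) F) =
    (y : Matrix (Fin n) (Fin n) F) * (x : Matrix (Fin n) (Fin n) F)
  rw [h9, Matrix.mul_smul, Matrix.smul_mul, mul_one, one_mul]

theorem w4_of_four_nonscalar (h : ∀ S : Module.End F (Fin n → F), LinearMap.det S = 1 →
    NonScalar S → Four S) (g : Matrix.SpecialLinearGroup (Fin n) F) :
    W4 (Subgroup.center (Matrix.SpecialLinearGroup (Fin n) F)) g := by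
  by_cases hS : NonScalar (Matrix.toLin' (g : Matrix (Fin n) (Fin n) F))
  · exact w4_of_four g (h _ (by rw [LinearMap.det_toLin', g.2]) hS)
  · apply W4.of_mem
    have hS' : ∃ a : F, ∀ x, Matrix.toLin' (g : Matrix (Fin n) (Fin n) F) x = a • x := by
      unfold Cfsg.Agent.H141.Ore.NonScalar at hS
      push Not at hS
      exact hS
    obtain ⟨a, ha⟩ := hS'
    have h1 : Matrix.toLin' (g : Matrix (Fin n) (Fin n) F) = a • (1 : Module.End F (Fin n → F)) := by
      apply LinearMap.ext
      intro x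
      rw [ha x]
      rfl
    have h2 : g = mkSL (Matrix.toLin' (g : Matrix (Fin n) (Fin n) F))
        (by rw [LinearMap.det_toLin', g.2]) := by
      apply Subtype.ext
      show (g : Matrix (Fin n) (Fin n) F) = LinearMap.toMatrix' (Matrix.toLin' g.1)
      rw [LinearMap.toMatrix'_toLin']
    rw [h2]
    exact mkSL_mem_center _ a h1

/-- the row PSL, given the case of even dimension at least four and odd characteristic -/
theorem i4_psl_of (hE : ∀ (F : Type) [Field F] [Fintype F] (n : ℕ), Even n → 4 ≤ n → (2 : F) ≠ 0 →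
      ∀ S : Module.End F (Fin n → F), LinearMap.det S = 1 → NonScalar S → Four S)
    {G : Type*} [Group G] (h : Cfsg.IsPSL G) : I4 G := by
  obtain ⟨F, _, _, n, hn, hc, ⟨e⟩⟩ := h
  refine I4.congr e.symm (I4.quot ?_)
  apply w4_of_four_nonscalar
  intro S hdet hS
  have hfr : finrank F (Fin n → F) = n := by
    rw [Module.finrank_fintype_fun_eq_card, Fintype.card_fin]
  by_cases h2 : (2 : F) = 0
  · exact four_of_odd S hdet (Or.inl hS) (Or.inr h2)
  rcases Nat.even_or_odd n with he | ho
  · rcases eq_or_lt_of_le hn with h3 | h3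
    · subst h3
      obtain ⟨a, ha, haa⟩ := exists_scalar (hc rfl)
      exact four_two hfr a ha haa S hdet hS
    · exact hE F n he (by obtain ⟨k, hk⟩ := he; omega) h2 S hdet hS
  · exact four_of_odd S hdet (Or.inl hS) (Or.inl (by rwa [hfr]))

end

end Cfsg.Agent.H886.Inv
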