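import Cfsg.Agent.H886.Inv.Unip

/-!
# Strongly real up to sign, products of two such endomorphisms (S4171, row PSL)

* `SRL B`: `B` is inverted by `s` with `det s = 1`, `s² = ±1`;
* `Four S`: `S = z B C` with `B`, `C` of determinant one and strongly real up to sign.
-/

set_option autoImplicit false

universe u w w'

namespace Cfsg.Agent.H886.Inv

open Polynomial Module Cfsg.Agent.H141.Ore

section

variable {F : Type u} [Field F] {V : Type w} [AddCommGroup V] [Module F V]
  {W : Type w'} [AddCommGroup W] [Module F W]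

/-- `B` is, up to sign, strongly real in `SL(V)` -/
def SRL (B : Module.End F V) : Prop :=
  ∃ (s : Module.End F V) (ε : F), (ε = 1 ∨ ε = -1) ∧ LinearMap.det s = 1 ∧
    s * s = ε • (1 : Module.End F V) ∧ (s * B) * (s * B) = ε • (1 : Module.End F V)

/-- `S` is, up to a scalar, the product of two elements of `SL(V)` strongly real up to sign -/
def Four (S : Module.End F V) : Prop :=
  ∃ (z : F) (B C : Module.End F V), S = z • (B * C) ∧ SRL B ∧ SRL C ∧
    LinearMap.det B = 1 ∧ LinearMap.det C = 1

/-- transport along a linear equivalence `e`; `e ∘ B = B' ∘ e` -/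
theorem SRL.transport (e : V ≃ₗ[F] W) {B : Module.End F V} {B' : Module.End F W}
    (h : ∀ v, e (B v) = B' (e v)) (hB : SRL B) : SRL B' := by
  obtain ⟨s, ε, hε, hs, h1, h2⟩ := hB
  refine ⟨e.conj s, ε, hε, ?_, ?_, ?_⟩
  · rw [LinearEquiv.conj_apply, LinearMap.comp_assoc, LinearMap.det_conj, hs]
  · ext w
    have := LinearMap.congr_fun h1 (e.symm w)
    simp only [Module.End.mul_apply, LinearMap.smul_apply, Module.End.one_apply] at this ⊢
    rw [LinearEquiv.conj_apply_apply, LinearEquiv.conj_apply_apply, LinearEquiv.symm_apply_apply,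
      this, map_smul, LinearEquiv.apply_symm_apply]
  · ext w
    have hB' : ∀ w, B' w = e (B (e.symm w)) := fun w => by rw [h, LinearEquiv.apply_symm_apply]
    have := LinearMap.congr_fun h2 (e.symm w)
    simp only [Module.End.mul_apply, LinearMap.smul_apply, Module.End.one_apply] at this ⊢
    rw [LinearEquiv.conj_apply_apply, LinearEquiv.conj_apply_apply, hB', hB',
      LinearEquiv.symm_apply_apply, LinearEquiv.symm_apply_apply, LinearEquiv.symm_apply_apply,
      this, map_smul, LinearEquiv.apply_symm_apply]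

theorem det_transport (e : V ≃ₗ[F] W) {B : Module.End F V} {B' : Module.End F W}
    (h : ∀ v, e (B v) = B' (e v)) : LinearMap.det B' = LinearMap.det B := by
  have : B' = (e : V →ₗ[F] W) ∘ₗ B ∘ₗ (e.symm : W →ₗ[F] V) := by
    ext w
    simp [h]
  rw [this, LinearMap.det_conj]

theorem Four.transport (e : V ≃ₗ[F] W) {S : Module.End F V} {S' : Module.End F W}
    (h : ∀ v, e (S v) = S' (e v)) (hS : Four S) : Four S' := by
  obtain ⟨z, B, C, h1, h2, h3, h4, h5⟩ := hS
  have hB : ∀ v, e (B v) = e.conj B (e v) := fun v => by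
    rw [LinearEquiv.conj_apply_apply, LinearEquiv.symm_apply_apply]
  have hC : ∀ v, e (C v) = e.conj C (e v) := fun v => by
    rw [LinearEquiv.conj_apply_apply, LinearEquiv.symm_apply_apply]
  refine ⟨z, e.conj B, e.conj C, ?_, h2.transport e hB, h3.transport e hC, ?_, ?_⟩
  · ext w
    have h6 : S' w = e (S (e.symm w)) := by rw [h, LinearEquiv.apply_symm_apply]
    rw [h6, h1]
    simp [LinearEquiv.conj_apply_apply]
  · rw [det_transport e hB, h4]
  · rw [det_transport e hC, h5]

/-- inverted by `s`: the two involutions -/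
theorem SRL.of_inv {B : Module.End F V} (s : Module.End F V) (ε : F) (hε : ε = 1 ∨ ε = -1)
    (hs : LinearMap.det s = 1) (h1 : s * s = ε • (1 : Module.End F V))
    (h2 : B * s * B = s) : SRL B := by
  refine ⟨s, ε, hε, hs, h1, ?_⟩
  calc s * B * (s * B) = s * (B * s * B) := by simp only [mul_assoc]
    _ = ε • 1 := by rw [h2, h1]

theorem SRL.one : SRL (1 : Module.End F V) :=
  ⟨1, 1, Or.inl rfl, map_one _, by simp, by simp⟩

theorem SRL.neg {B : Module.End F V} (h : SRL B) : SRL (-B) := by
  obtain ⟨s, ε, h1, h2, h3, h4⟩ := h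
  exact ⟨s, ε, h1, h2, h3, by rw [mul_neg, neg_mul_neg, h4]⟩

/-- an element of square one and determinant one -/
theorem SRL.of_sq {B : Module.End F V} (h : B * B = 1) : SRL B :=
  ⟨1, 1, Or.inl rfl, map_one _, by simp, by simp [h]⟩

theorem SRL.of_unip [FiniteDimensional F V] {B : Module.End F V} (hB : IsNilpotent (B - 1))
    (hn : Odd (finrank F V) ∨ (2 : F) = 0) : SRL B := by
  obtain ⟨s, h1, h2⟩ := unip_inv B hB
  rcases det_of_sq s h1 with h3 | h3
  · exact ⟨s, 1, Or.inl rfl, h3, by rw [h1, one_smul], by rw [h2, one_smul]⟩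
  · rcases hn with hn | hn
    · refine ⟨-s, 1, Or.inl rfl, ?_, ?_, ?_⟩
      · rw [← neg_one_smul F s, LinearMap.det_smul, hn.neg_one_pow, h3]
        ring
      · rw [neg_mul_neg, h1, one_smul]
      · rw [neg_mul, neg_mul_neg, h2, one_smul]
    · refine ⟨s, 1, Or.inl rfl, ?_, by rw [h1, one_smul], by rw [h2, one_smul]⟩
      rw [h3]
      linear_combination -hn

/-- the case of odd dimension or characteristic two -/
theorem four_of_odd [FiniteDimensional F V] (S : Module.End F V) (hdet : LinearMap.det S = 1)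
    (hS : NonScalar S ∨ S = 1) (hn : Odd (finrank F V) ∨ (2 : F) = 0) : Four S := by
  obtain ⟨B, C, h1, h2, h3⟩ := exists_bc S hdet hS
  exact ⟨1, B, C, by rw [one_smul, h1], SRL.of_unip h2 hn, SRL.of_unip h3 hn, det_unip B h2,
    det_unip C h3⟩

/-- direct sums -/
theorem SRL.prodMap {B : Module.End F V} {C : Module.End F W} (s : Module.End F V)
    (t : Module.End F W) (ε : F) (hε : ε = 1 ∨ ε = -1)
    (hd : LinearMap.det (LinearMap.prodMap s t) = 1)
    (h1 : s * s = ε • (1 : Module.End F V)) (h2 : (s * B) * (s * B) = ε • (1 : Module.End F V))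
    (h3 : t * t = ε • (1 : Module.End F W)) (h4 : (t * C) * (t * C) = ε • (1 : Module.End F W)) :
    SRL (LinearMap.prodMap B C : Module.End F (V × W)) := by
  have e1 : ∀ v, s (s v) = ε • v := fun v => LinearMap.congr_fun h1 v
  have e2 : ∀ v, s (B (s (B v))) = ε • v := fun v => LinearMap.congr_fun h2 v
  have e3 : ∀ v, t (t v) = ε • v := fun v => LinearMap.congr_fun h3 v
  have e4 : ∀ v, t (C (t (C v))) = ε • v := fun v => LinearMap.congr_fun h4 v
  refine ⟨LinearMap.prodMap s t, ε, hε, hd, ?_, ?_⟩
  · refine LinearMap.ext fun x => Prod.ext ?_ ?_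
    · exact e1 x.1
    · exact e3 x.2
  · refine LinearMap.ext fun x => Prod.ext ?_ ?_
    · exact e2 x.1
    · exact e4 x.2

end

end Cfsg.Agent.H886.Inv
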