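import Cfsg.Agent.H141.Ore.Schur

/-!
# Products of two unipotent endomorphisms (S4171, row PSL)

`exists_lu`: an endomorphism with determinant one which is not scalar (or is the identity) is
`B D⁻¹` with `B`, `D` unipotent.
-/

set_option autoImplicit false

universe u w

namespace Cfsg.Agent.H886.Inv

open Polynomial Module Cfsg.Agent.H141.Ore

section

variable {F : Type u} [Field F] {V : Type w} [AddCommGroup V] [Module F V]

/-- a non-scalar endomorphism has a vector which is not an eigenvector -/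
theorem exists_noneigen (S : Module.End F V) (hS : NonScalar S) : ∃ v : V, ∀ a : F, S v ≠ a • v := by
  by_contra hcon
  push Not at hcon
  choose c hc using hcon
  -- all the `c v`, `v ≠ 0`, are equal
  by_cases hV : ∀ v : V, v = 0
  · obtain ⟨x, hx⟩ := hS 0
    rw [hV x] at hx
    simp at hx
  push Not at hV
  obtain ⟨v, hv⟩ := hV
  obtain ⟨x, hx⟩ := hS (c v)
  have hx0 : x ≠ 0 := by
    rintro rfl
    simp at hx
  by_cases hd : ∃ b : F, x = b • v
  · obtain ⟨b, rfl⟩ := hd
    apply hx
    rw [map_smul, hc v, smul_comm]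
  · have h1 := hc (x + v)
    rw [map_add, hc x, hc v, smul_add] at h1
    have h2 : (c x - c (x + v)) • x = (c (x + v) - c v) • v := by
      rw [sub_smul, sub_smul, sub_eq_sub_iff_add_eq_add, h1, add_comm]
    have h3 : c x - c (x + v) = 0 := by
      by_contra h
      apply hd
      refine ⟨(c x - c (x + v))⁻¹ * (c (x + v) - c v), ?_⟩
      rw [mul_smul, ← h2, smul_smul, inv_mul_cancel₀ h, one_smul]
    rw [h3, zero_smul] at h2
    have h4 : c (x + v) - c v = 0 := (smul_eq_zero.1 h2.symm).resolve_right hv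
    apply hx
    rw [hc x, sub_eq_zero.1 h3, sub_eq_zero.1 h4]

/-- functionals with prescribed values on a pair of independent vectors -/
theorem exists_functional_pair {v w : V} (h : LinearIndependent F ![v, w]) (a b : F) :
    ∃ φ : V →ₗ[F] F, φ v = a ∧ φ w = b := by
  obtain ⟨φ, hφ⟩ := LinearMap.exists_extend (p := Submodule.span F (Set.range ![v, w]))
    ((Basis.span h).constr F ![a, b])
  have h1 : ∀ i : Fin 2, φ (![v, w] i) = ![a, b] i := by
    intro i
    have h2 : φ ((Basis.span h i : Submodule.span F (Set.range ![v, w])) : V) = ![a, b] i := by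
      have h3 := LinearMap.congr_fun hφ (Basis.span h i)
      rw [Basis.constr_basis] at h3
      exact h3
    rwa [Basis.span_apply] at h2
  exact ⟨φ, h1 0, h1 1⟩

theorem indep_pair {v w : V} (h : ∀ a : F, w ≠ a • v) (hv : v ≠ 0) : LinearIndependent F ![v, w] := by
  rw [LinearIndependent.pair_iff' hv]
  intro a ha
  exact h a ha.symm

/-- a scalar Schur complement has a nonzero factor -/
theorem schur_scalar_ne_zero [FiniteDimensional F V] (S : Module.End F V) (hdet : LinearMap.det S = 1)
    (φ : V →ₗ[F] F) (v : V) (hv : φ v = 1) (hSv : φ (S v) = 1) (hn : 2 ≤ finrank F V) (a : F)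
    (h : ∀ w, schur S φ v hSv w = a • w) : a ≠ 0 := by
  rintro rfl
  have h1 : schur S φ v hSv = 0 := by
    ext w
    rw [h w, zero_smul]
    rfl
  have h2 := det_schur S φ v hv hSv
  have h3 := finrank_ker_functional φ v hv
  rw [h1, LinearMap.det_zero, hdet, zero_pow (by omega)] at h2
  exact zero_ne_one h2

/-- a good pivot -/
theorem exists_pivot [FiniteDimensional F V] (S : Module.End F V) (hdet : LinearMap.det S = 1)
    (hS : NonScalar S) : ∃ (φ : V →ₗ[F] F) (v : V) (_ : φ v = 1) (hSv : φ (S v) = 1),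
      NonScalar (schur S φ v hSv) ∨ schur S φ v hSv = 1 := by
  obtain ⟨v, hv⟩ := exists_noneigen S hS
  have hv0 : v ≠ 0 := by
    rintro rfl
    exact hv 0 (by simp)
  have hind := indep_pair hv hv0
  have hn : 2 ≤ finrank F V := by
    have := hind.fintype_card_le_finrank
    simpa using this
  obtain ⟨φ, hφ1, hφ2⟩ := exists_functional_pair hind 1 1
  by_cases hc : NonScalar (schur S φ v hφ2)
  · exact ⟨φ, v, hφ1, hφ2, Or.inl hc⟩
  have hc' : ∃ a : F, ∀ w, schur S φ v hφ2 w = a • w := by
    unfold Cfsg.Agent.H141.Ore.NonScalar at hc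
    push Not at hc
    exact hc
  obtain ⟨a, ha⟩ := hc'
  have ha0 := schur_scalar_ne_zero S hdet φ v hφ1 hφ2 hn a ha
  rcases eq_or_lt_of_le hn with h2 | h3
  · -- dimension two
    have hk := finrank_ker_functional φ v hφ1
    have hk1 : finrank F (LinearMap.ker φ) = 1 := by omega
    have h4 : schur S φ v hφ2 = a • (1 : Module.End F (LinearMap.ker φ)) := by
      ext w
      rw [ha w]
      rfl
    have h5 := det_schur S φ v hφ1 hφ2
    rw [hdet, h4, LinearMap.det_smul, hk1, pow_one] at h5
    have h6 : a = 1 := by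
      have : LinearMap.det (1 : Module.End F (LinearMap.ker φ)) = 1 := map_one _
      rwa [this, mul_one] at h5
    refine ⟨φ, v, hφ1, hφ2, Or.inr ?_⟩
    rw [h4, h6, one_smul]
  · -- another functional
    have hlt : Submodule.span F (Set.range ![v, S v]) < ⊤ := by
      rw [lt_top_iff_ne_top]
      intro htop
      have h4 := finrank_range_le_card (R := F) ![v, S v]
      rw [Set.finrank, htop, finrank_top] at h4
      simp at h4
      omega
    obtain ⟨ψ, hψ0, hψ⟩ := Submodule.exists_le_ker_of_lt_top _ hlt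
    have hψ1 : ψ v = 0 := hψ (Submodule.subset_span ⟨0, rfl⟩)
    have hψ2 : ψ (S v) = 0 := hψ (Submodule.subset_span ⟨1, rfl⟩)
    have h1 : (φ + ψ) v = 1 := by rw [LinearMap.add_apply, hφ1, hψ1, add_zero]
    have h2 : (φ + ψ) (S v) = 1 := by rw [LinearMap.add_apply, hφ2, hψ2, add_zero]
    by_cases hd : NonScalar (schur S (φ + ψ) v h2)
    · exact ⟨φ + ψ, v, h1, h2, Or.inl hd⟩
    exfalso
    have hd' : ∃ a : F, ∀ w, schur S (φ + ψ) v h2 w = a • w := by
      unfold Cfsg.Agent.H141.Ore.NonScalar at hd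
      push Not at hd
      exact hd
    obtain ⟨b, hb⟩ := hd'
    -- the two scalars are equal
    have hw1 : φ (S v - v) = 0 := by rw [map_sub, hφ1, hφ2, sub_self]
    have hw2 : (φ + ψ) (S v - v) = 0 := by rw [map_sub, h1, h2, sub_self]
    have e1 := congrArg (fun x : LinearMap.ker φ => (x : V)) (ha ⟨S v - v, LinearMap.mem_ker.2 hw1⟩)
    have e2 := congrArg (fun x : LinearMap.ker (φ + ψ) => (x : V))
      (hb ⟨S v - v, LinearMap.mem_ker.2 hw2⟩)
    simp only [coe_schur, SetLike.val_smul] at e1 e2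
    have e3 : (a - b) • v + ((φ + ψ) (S (S v - v)) - φ (S (S v - v)) - (a - b)) • S v = 0 := by
      have : ((φ + ψ) (S (S v - v)) - φ (S (S v - v))) • S v = (a - b) • (S v - v) := by
        rw [sub_smul, sub_smul, ← e1, ← e2]
        abel
      rw [sub_smul ((φ + ψ) (S (S v - v)) - φ (S (S v - v))) (a - b), this, smul_sub]
      abel
    have e4 : a - b = 0 := (LinearIndependent.pair_iff.1 hind _ _ e3).1
    have hab : b = a := (sub_eq_zero.1 e4).symm
    subst hab
    have hne : S v ≠ v := fun h => hv 1 (by rw [h, one_smul])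
    have := schur_scalar_unique S φ (φ + ψ) v hφ1 h1 hφ2 h2 hne b ha0 ha hb
    apply hψ0
    have h5 : φ + ψ = φ + 0 := by rw [add_zero]; exact this.symm
    exact add_left_cancel h5

theorem nilp_iff_aeval (B : Module.End F V) :
    IsNilpotent (B - 1) ↔ ∃ k : ℕ, ∀ x, aeval B ((X - C (1 : F)) ^ k) x = 0 := by
  have h : ∀ k : ℕ, aeval B ((X - C (1 : F)) ^ k) = (B - 1) ^ k := by
    intro k
    rw [map_pow, map_sub, aeval_X, aeval_C, map_one]
  constructor
  · rintro ⟨k, hk⟩
    refine ⟨k, fun x => ?_⟩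
    rw [h k, hk]
    rfl
  · rintro ⟨k, hk⟩
    refine ⟨k, ?_⟩
    ext x
    rw [← h k, hk]
    rfl

end

theorem exists_lu {F : Type u} [Field F] (n : ℕ) : ∀ (V : Type w) [AddCommGroup V] [Module F V]
    [FiniteDimensional F V] (_ : finrank F V = n) (S : Module.End F V) (_ : LinearMap.det S = 1)
    (_ : NonScalar S ∨ S = 1), ∃ B D : Module.End F V, (∀ x, S (D x) = B x) ∧
      IsNilpotent (B - 1) ∧ IsNilpotent (D - 1) := by
  induction n with
  | zero =>
    intro V _ _ _ hn S _ _
    have : Subsingleton V := finrank_zero_iff.1 hn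
    refine ⟨1, 1, fun x => Subsingleton.elim _ _, ?_, ?_⟩ <;> rw [sub_self] <;>
      exact IsNilpotent.zero
  | succ n ih =>
    intro V _ _ _ hn S hdet hS
    rcases hS with hS | rfl
    · obtain ⟨φ, v, hv, hSv, hs⟩ := exists_pivot S hdet hS
      have hk := finrank_ker_functional φ v hv
      obtain ⟨B', D', h1, h2, h3⟩ := ih (LinearMap.ker φ) (by omega) (schur S φ v hSv)
        (by rw [det_schur S φ v hv hSv, hdet]) hs
      obtain ⟨B, D, L⟩ := exists_lift S φ v hv hSv 1 B' D' h1
      refine ⟨B, D, L.sd, ?_, ?_⟩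
      · rw [nilp_iff_aeval] at h2 ⊢
        obtain ⟨k, hk⟩ := h2
        refine ⟨k + 1, fun x => ?_⟩
        rw [pow_succ']
        exact L.ann_B _ hk x
      · rw [nilp_iff_aeval] at h3 ⊢
        obtain ⟨k, hk⟩ := h3
        refine ⟨k + 1, fun x => ?_⟩
        rw [pow_succ']
        exact L.ann_D _ hk x
    · refine ⟨1, 1, fun x => rfl, ?_, ?_⟩ <;> rw [sub_self] <;> exact IsNilpotent.zero

section

variable {F : Type u} [Field F] {V : Type w} [AddCommGroup V] [Module F V]

/-- the inverse of a unipotent endomorphism is unipotent -/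
theorem unip_exists_inv (D : Module.End F V) (hD : IsNilpotent (D - 1)) :
    ∃ C : Module.End F V, D * C = 1 ∧ C * D = 1 ∧ IsNilpotent (C - 1) := by
  have h1 : IsUnit D := by
    have := IsNilpotent.isUnit_one_add hD
    rwa [add_sub_cancel] at this
  obtain ⟨u, rfl⟩ := h1
  refine ⟨(u⁻¹ : (Module.End F V)ˣ), u.mul_inv, u.inv_mul, ?_⟩
  have h2 : ((u⁻¹ : (Module.End F V)ˣ) : Module.End F V) - 1 =
      (-((u⁻¹ : (Module.End F V)ˣ) : Module.End F V)) * ((u : Module.End F V) - 1) := by
    rw [mul_sub, neg_mul, u.inv_mul, mul_one]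
    abel
  rw [h2]
  refine Commute.isNilpotent_mul_left ?_ hD
  have h3 : Commute ((u⁻¹ : (Module.End F V)ˣ) : Module.End F V) (u : Module.End F V) := by
    show _ * _ = _ * _
    rw [u.inv_mul, u.mul_inv]
  exact (h3.sub_right (Commute.one_right _)).neg_left

/-- **Sourour**: a nonscalar endomorphism of determinant one is a product of two unipotent ones -/
theorem exists_bc [FiniteDimensional F V] (S : Module.End F V) (hdet : LinearMap.det S = 1)
    (hS : NonScalar S ∨ S = 1) : ∃ B C : Module.End F V, S = B * C ∧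
      IsNilpotent (B - 1) ∧ IsNilpotent (C - 1) := by
  obtain ⟨B, D, h1, h2, h3⟩ := exists_lu _ V rfl S hdet hS
  obtain ⟨C, h4, _, h6⟩ := unip_exists_inv D h3
  refine ⟨B, C, ?_, h2, h6⟩
  have h7 : S * D = B := LinearMap.ext h1
  rw [← h7, mul_assoc, h4, mul_one]

/-- the determinant of a unipotent endomorphism -/
theorem det_unip [FiniteDimensional F V] (B : Module.End F V) (hB : IsNilpotent (B - 1)) :
    LinearMap.det B = 1 := by
  have h1 := (LinearMap.isNilpotent_iff_charpoly (B - 1)).1 hB
  have h2 := LinearMap.eval_charpoly (B - 1) (-1)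
  rw [h1, eval_pow, eval_X] at h2
  have h3 : algebraMap F (Module.End F V) (-1) - (B - 1) = (-1 : F) • B := by
    rw [map_neg, map_one, neg_smul, one_smul]
    abel
  rw [h3, LinearMap.det_smul] at h2
  have h4 : ((-1 : F)) ^ finrank F V ≠ 0 := pow_ne_zero _ (neg_ne_zero.2 one_ne_zero)
  exact (mul_left_cancel₀ h4 (h2.symm.trans (mul_one _).symm))

end

end Cfsg.Agent.H886.Inv
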